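import Groth.Agent.EGA43.DimFormula.ValFibre
import Groth.Agent.DimLib.Components
import Groth.Agent.DimLib.Maximal
import Groth.Agent.DimLib.Sub

/-!
# Components of the special fibre over a valuation ring
-/

set_option autoImplicit false
set_option backward.isDefEq.respectTransparency false
set_option linter.style.haveILetI false

universe u

open CategoryTheory CategoryTheory.Limits AlgebraicGeometry TopologicalSpace IsLocalRing

namespace Groth.Agent.FlatMorValEquidim

open Groth.Agent

theorem exists_open_subset_component {F : Scheme.{u}} [IsLocallyNoetherian F] {Z : Set F}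
    (hZ : Z ∈ irreducibleComponents F) {ζ : F} (hζ : IsGenericPoint ζ Z) :
    ∃ U : F.Opens, ζ ∈ U ∧ (U : Set F) ⊆ Z := by
  obtain ⟨V, hV, hζV, -⟩ := exists_isAffineOpen_mem_and_subset (x := ζ) (U := (⊤ : F.Opens)) trivial
  have : IsAffine V.toScheme := hV
  have : IsNoetherian V.toScheme := { }
  let S : Set (Set V.toScheme) := {C ∈ irreducibleComponents V.toScheme | (⟨ζ, hζV⟩ : V.toScheme) ∉ C}
  have hS : S.Finite :=
    TopologicalSpace.NoetherianSpace.finite_irreducibleComponents.subset fun C hC => hC.1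
  let W : V.toScheme.Opens := ⟨(⋃ C ∈ S, C)ᶜ, (hS.isClosed_biUnion fun C hC =>
    isClosed_of_mem_irreducibleComponents C hC.1).isOpen_compl⟩
  refine ⟨V.ι ''ᵁ W, ⟨⟨ζ, hζV⟩, ?_, rfl⟩, ?_⟩
  · show _ ∈ (⋃ C ∈ S, C)ᶜ
    simp only [Set.mem_compl_iff, Set.mem_iUnion, not_exists]
    exact fun C hC hz => hC.2 hz
  · rintro _ ⟨v, hv, rfl⟩
    have hmem : (⟨ζ, hζV⟩ : V.toScheme) ∈ irreducibleComponent v := by_contra fun h => hv
      (Set.mem_biUnion (x := irreducibleComponent v)
        ⟨irreducibleComponent_mem_irreducibleComponents v, h⟩ mem_irreducibleComponent)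
    obtain ⟨η, hη⟩ := QuasiSober.sober (S := irreducibleComponent v)
      isIrreducible_irreducibleComponent isClosed_irreducibleComponent
    have h1 : η.1 ⤳ ζ := (hη.specializes hmem).map V.ι.continuous
    have h2 : IsIrreducible (closure ({η.1} : Set F)) := isIrreducible_singleton.closure
    have h3 : Z ⊆ closure {η.1} := by
      rw [← hζ.def]
      exact closure_minimal (Set.singleton_subset_iff.2 (specializes_iff_mem_closure.1 h1)) isClosed_closure
    exact hZ.2 h2 h3 (specializes_iff_mem_closure.1 ((hη.specializes mem_irreducibleComponent).map V.ι.continuous))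

theorem ptDim_fiber_open {X S : Scheme.{u}} (f : X ⟶ S) [LocallyOfFiniteType f] (W : X.Opens) (s : S) :
    ∃ m : (W.ι ≫ f).fiber s ⟶ f.fiber s, IsOpenImmersion m ∧ m ≫ f.fiberι s = (W.ι ≫ f).fiberι s ≫ W.ι ∧
      ∀ u, DimLib.ptDim ((W.ι ≫ f).fiberToSpecResidueField s) u = DimLib.ptDim (f.fiberToSpecResidueField s) (m u) := by
  let m : (W.ι ≫ f).fiber s ⟶ f.fiber s :=
    pullback.map (W.ι ≫ f) (S.fromSpecResidueField s) f (S.fromSpecResidueField s) W.ι (𝟙 _) (𝟙 _)
      (by rw [Category.comp_id]) (by simp)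
  haveI : IsOpenImmersion m :=
    MorphismProperty.pullbackMap (P := @IsOpenImmersion.{u}) inferInstance inferInstance rfl (by simp)
  refine ⟨m, inferInstance, by simp [m, Scheme.Hom.fiberι], fun u => ?_⟩
  rw [← DimLib.ptDim_comp_preimmersion (f.fiberToSpecResidueField s) m u]
  congr 1
  simp [m, Scheme.Hom.fiberToSpecResidueField]

theorem dim_component {R : Type u} [CommRing R] [IsDomain R] [ValuationRing R] {X : Scheme.{u}}
    [IrreducibleSpace X] (f : X ⟶ Spec (CommRingCat.of R)) [LocallyOfFiniteType f] [Surjective f]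
    (Z : Set ↥(f.fiber (closedPoint R))) (hZ : Z ∈ irreducibleComponents ↥(f.fiber (closedPoint R))) :
    topologicalKrullDim ↥Z =
      topologicalKrullDim ↥(f.fiber (genericPoint (Spec (CommRingCat.of R)))) := by
  let c : ↥(Spec (CommRingCat.of R)) := closedPoint R
  let g := genericPoint (Spec (CommRingCat.of R))
  haveI : LocallyOfFiniteType (f.fiberToSpecResidueField c) :=
    inferInstanceAs (LocallyOfFiniteType (pullback.snd f _))
  haveI : IsLocallyNoetherian (f.fiber c) :=
    LocallyOfFiniteType.isLocallyNoetherian (f.fiberToSpecResidueField c)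
  obtain ⟨ζ, hζ⟩ := QuasiSober.sober hZ.1 (isClosed_of_mem_irreducibleComponents Z hZ)
  obtain ⟨U, hζU, hUZ⟩ := exists_open_subset_component hZ hζ
  obtain ⟨W', hW', hWU⟩ := (f.fiberι c).isEmbedding.isInducing.isOpen_iff.1 U.2
  obtain ⟨W, hW, hζW, hWW'⟩ := exists_isAffineOpen_mem_and_subset (x := f.fiberι c ζ) (U := ⟨W', hW'⟩)
    (by have : ζ ∈ (f.fiberι c) ⁻¹' W' := hWU ▸ hζU; exact this)
  haveI : CompactSpace W.toScheme := isCompact_iff_compactSpace.mp hW.isCompact
  haveI : Nonempty W := ⟨⟨_, hζW⟩⟩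
  haveI hpre : PreirreducibleSpace W := W.2.isOpenEmbedding_subtypeVal.preirreducibleSpace
  haveI : IrreducibleSpace W.toScheme :=
    @IrreducibleSpace.mk _ _ hpre inferInstance
  let h := W.ι ≫ f
  haveI : ∀ s, LocallyOfFiniteType (h.fiberToSpecResidueField s) := fun s =>
    inferInstanceAs (LocallyOfFiniteType (pullback.snd h _))
  haveI : ∀ s, LocallyOfFiniteType (f.fiberToSpecResidueField s) := fun s =>
    inferInstanceAs (LocallyOfFiniteType (pullback.snd f _))
  have hgen : f (genericPoint X) = g := by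
    obtain ⟨x, hx⟩ := f.surjective g
    have h1 : f (genericPoint X) ⤳ g := hx ▸ ((genericPoint_spec X).specializes trivial).map f.continuous
    exact (h1.antisymm ((genericPoint_spec _).specializes trivial)).eq
  have hgW : genericPoint X ∈ W := ((genericPoint_spec X).specializes trivial).mem_open W.isOpen hζW
  haveI : IsDominant h := ⟨dense_iff_closure_eq.2 (Set.univ_subset_iff.1 (by
    rw [← (genericPoint_spec (Spec (CommRingCat.of R))).def]
    exact closure_mono (Set.singleton_subset_iff.2 ⟨⟨genericPoint X, hgW⟩, hgen⟩)))⟩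
  have hζc : f (f.fiberι c ζ) = c := (f.range_fiberι c).le ⟨ζ, rfl⟩
  have key := EGA43.DimFormula.fiber_dim_eq_of_valuationRing h ⟨_, hζW⟩ hζc
  have h1 : topologicalKrullDim ↥(h.fiber c) = topologicalKrullDim ↥Z := by
    obtain ⟨m, hm, hmι, hmd⟩ := ptDim_fiber_open f W c
    rw [DimLib.topologicalKrullDim_eq_iSup (h.fiberToSpecResidueField c),
      DimLib.topologicalKrullDim_eq_ptDim_of_isGenericPoint (f.fiberToSpecResidueField c) hζ]
    refine le_antisymm (iSup_le fun u => ?_) ?_
    · rw [hmd]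
      have hu : m u ∈ U := by
        have hu' : f.fiberι c (m u) ∈ W' := by
          rw [show f.fiberι c (m u) = W.ι (h.fiberι c u) from congrArg (fun z : _ ⟶ X => z u) hmι]
          exact hWW' (h.fiberι c u).2
        exact (Set.ext_iff.1 hWU (m u)).1 hu'
      exact_mod_cast DimLib.ptDim_le_of_specializes (f.fiberToSpecResidueField c) (hζ.specializes (hUZ hu))
    · obtain ⟨u, hu⟩ : (⟨_, hζW⟩ : W) ∈ Set.range (h.fiberι c) := by
        rw [Scheme.Hom.range_fiberι]; exact hζc
      have hmu : m u = ζ := (f.fiberι c).isEmbedding.injective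
        ((congrArg (fun z : _ ⟶ X => z u) hmι).trans (congrArg W.ι hu))
      refine le_trans (le_of_eq ?_) (le_iSup (fun u => (DimLib.ptDim (h.fiberToSpecResidueField c) u : WithBot ℕ∞)) u)
      rw [hmd, hmu]
  have h2 : topologicalKrullDim ↥(h.fiber g) = topologicalKrullDim ↥(f.fiber g) := by
    obtain ⟨m, hm, hmι, hmd⟩ := ptDim_fiber_open f W g
    obtain ⟨ξ, hξ⟩ : genericPoint X ∈ Set.range (f.fiberι g) := by rw [f.range_fiberι]; exact hgen
    obtain ⟨ξ', hξ'⟩ : (⟨genericPoint X, hgW⟩ : W) ∈ Set.range (h.fiberι g) := by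
      rw [Scheme.Hom.range_fiberι]; exact hgen
    have hmξ : m ξ' = ξ := (f.fiberι g).isEmbedding.injective
      (((congrArg (fun z : _ ⟶ X => z ξ') hmι).trans (congrArg W.ι hξ')).trans hξ.symm)
    have hgenF : ∀ v, ξ ⤳ v := fun v => by
      rw [← (f.fiberι g).isEmbedding.isInducing.specializes_iff, hξ]
      exact (genericPoint_spec X).specializes trivial
    rw [DimLib.topologicalKrullDim_eq_iSup (h.fiberToSpecResidueField g),
      DimLib.topologicalKrullDim_eq_iSup (f.fiberToSpecResidueField g)]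
    refine le_antisymm (iSup_le fun u => ?_) (iSup_le fun v => ?_)
    · rw [hmd]
      exact le_iSup (fun v => (DimLib.ptDim (f.fiberToSpecResidueField g) v : WithBot ℕ∞)) (m u)
    · refine le_trans ?_ (le_iSup (fun u => (DimLib.ptDim (h.fiberToSpecResidueField g) u : WithBot ℕ∞)) ξ')
      rw [hmd, hmξ]
      exact_mod_cast DimLib.ptDim_le_of_specializes (f.fiberToSpecResidueField g) (hgenF v)
  rw [← h1, ← h2]
  exact key

end Groth.Agent.FlatMorValEquidim
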